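import Cfsg.Agent.H835.P4.Sim
import Cfsg.Agent.S4749
import Cfsg.Agent.S4076
import Cfsg.Agent.S3724

/-!
# S5210, P4-RKa: the structure part of `StRk` (helper835)

`rk_struct` : a finite group `G` with a TI, non-normal, elementary abelian Sylow `p`-subgroup of order `p^m`, `m ≥ 2`
(and `|G|` dividing `|GL(2m,p)|` for odd `p`) has a normal `p'`-subgroup `N` centralizing the Sylow `p`-subgroups such that
`G / N` has a normal subgroup `PSL(2,p^m)` containing all its Sylow `p`-subgroups.
-/

set_option autoImplicit false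

namespace Cfsg.Agent.H835.P4

open Subgroup Cfsg Cfsg.Agent Cfsg.Agent.H367.PU
open scoped Pointwise

universe u

theorem outSt : OutSt.{u} := fun {_} _ _ _ hna {_} _ hp X hX hidx P => Cfsg.Agent.S4076.result hna hp X hX hidx P

theorem eqSt : EqSt.{u} := fun {_ _} _ _ _ _ _ _ h => Cfsg.Agent.S3724.result h

theorem tiSt : TISt.{u} := fun {_} _ _ _ hna p _ P hTI hnc => Cfsg.Agent.S4749.result hna p P hTI hnc

/-- the number of Sylow subgroups is an isomorphism invariant -/
theorem card_sylow_congr {G H : Type*} [Group G] [Group H] [Finite G] (e : G ≃* H) (p : ℕ) [Fact p.Prime] :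
    Nat.card (Sylow p G) = Nat.card (Sylow p H) := by
  have : Finite H := Finite.of_equiv _ e.toEquiv
  refine Nat.card_congr (Equiv.ofBijective (fun P : Sylow p G => P.mapSurjective (f := e.toMonoidHom) e.surjective)
    ⟨?_, Sylow.mapSurjective_surjective (f := e.toMonoidHom) e.surjective p⟩)
  intro P Q h
  have h1 : (P : Subgroup G).map e.toMonoidHom = (Q : Subgroup G).map e.toMonoidHom :=
    congrArg (fun R : Sylow p H => (R : Subgroup H)) h
  exact Sylow.ext (Subgroup.map_injective (f := e.toMonoidHom) e.injective h1)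

/-- **The structure part of `StRk`.** -/
theorem rk_struct {G : Type u} [Group G] [Finite G] {p m : ℕ} [Fact p.Prime] (P : Sylow p G) (hm : 2 ≤ m)
    (hTI : ∀ g : G, g ∉ Subgroup.normalizer ((P : Subgroup G) : Set G) → ∀ x ∈ (P : Subgroup G),
      g * x * g⁻¹ ∈ (P : Subgroup G) → x = 1)
    (hnn : ¬ (P : Subgroup G).Normal) (hP : Nat.card P = p ^ m)
    (hc : ∀ x ∈ (P : Subgroup G), ∀ y ∈ (P : Subgroup G), x * y = y * x)
    (hex : ∀ x ∈ (P : Subgroup G), x ^ p = 1)
    (hd : p ≠ 2 → Nat.card G ∣ Nat.card (GL (Fin (2 * m)) (ZMod p))) :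
    ∃ (F : Type) (_ : Field F) (_ : Fintype F) (N : Subgroup G) (_ : N.Normal)
      (f : Matrix.ProjectiveSpecialLinearGroup (Fin 2) F →* G ⧸ N), Fintype.card F = p ^ m ∧ CQ p N ∧
      Function.Injective f ∧ (∀ Q : Sylow p (G ⧸ N), (Q : Subgroup (G ⧸ N)) ≤ f.range) ∧ f.range.Normal ∧
      Nat.card (Sylow p G) = Nat.card (Sylow p (Matrix.ProjectiveSpecialLinearGroup (Fin 2) F)) := by
  obtain ⟨N, hNn, hN, L, hLn, hLs, hLna, hLP, hEA, hdvd, hcard⟩ := reduce outSt P hm hTI hnn hP hc hex
  obtain ⟨F, _, _, hF, ⟨e⟩⟩ := sim tiSt eqSt hLna hm hEA fun h2 => hdvd.trans (hd h2)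
  have hr : (L.subtype.comp e.symm.toMonoidHom).range = L := by
    rw [MonoidHom.range_comp, MonoidHom.range_eq_top.2 e.symm.surjective, ← MonoidHom.range_eq_map,
      Subgroup.range_subtype]
  refine ⟨F, inferInstance, inferInstance, N, hNn, L.subtype.comp e.symm.toMonoidHom, hF, hN,
    L.subtype_injective.comp e.symm.injective, ?_, ?_, ?_⟩
  · rw [hr]
    exact hLP
  · rw [hr]
    exact hLn
  · rw [hcard]
    exact card_sylow_congr e p

end Cfsg.Agent.H835.P4
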