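import Cfsg.Agent.H835.P4.Sim
import Cfsg.Agent.H49.McLFive
import Cfsg.Agent.H49.JFourEleven
import Cfsg.Agent.S1703
import Cfsg.Agent.TypeM.FactsMcL

/-!
# The Sylow `5`-subgroups of `McL` and the Sylow `11`-subgroups of `J₄` are not abelian (helper835, for S5210, S5261)
-/

set_option autoImplicit false
set_option linter.unusedSectionVars false

namespace Cfsg.Agent.H835.P4

open Subgroup Cfsg Cfsg.Agent Cfsg.Agent.H666.TI
open scoped commutatorElement

universe u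

/-- `x`, `y` of order `p` generating an extraspecial group -/
theorem heis_false {L : Type*} [Group L] [Finite L] {p m : ℕ} [Fact p.Prime] (h : EA p m L) {x y : L}
    (hx : x ^ p = 1) (hy : y ^ p = 1) (h1 : ⁅x, y⁆ * x = x * ⁅x, y⁆) (h2 : ⁅x, y⁆ * y = y * ⁅x, y⁆)
    (hne : x * y ≠ y * x) : False := by
  have hz : ⁅x, y⁆ ≠ 1 := fun h3 => hne (commutatorElement_eq_one_iff_mul_comm.1 h3)
  have hx1 : x ≠ 1 := by
    rintro rfl
    exact hne (by rw [one_mul, mul_one])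
  have hzp : ⁅x, y⁆ ^ p = 1 := by
    have h3 : x * y * x⁻¹ = ⁅x, y⁆ * y := by
      rw [commutatorElement_def]
      group
    have h4 : (x * y * x⁻¹) ^ p = ⁅x, y⁆ ^ p * y ^ p := by
      rw [h3]
      exact (show Commute ⁅x, y⁆ y from h2).mul_pow p
    rw [conj_pow, hy, mul_one, mul_inv_cancel, mul_one] at h4
    exact h4.symm
  obtain ⟨R, hR⟩ := exists_sylow_mem (pElt_of_pow hx)
  have hzR : ⁅x, y⁆ ∈ R := h.ti.mem_of_comm hR hx1 h1.symm (pElt_of_pow hzp)
  have hyR : y ∈ R := h.ti.mem_of_comm hzR hz h2 (pElt_of_pow hy)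
  exact hne (h.comm R x hR y hyR)

section McL

open Cfsg.Agent.SporadicA Cfsg.Agent.SporadicStructure.Co0Matrix Cfsg.Agent.CoOneType.CoEval
open Cfsg.Agent.CoOneType.CoFast Cfsg.Agent.LThreeCo1.Ev
open Cfsg.Agent.H49.McLFive Cfsg.Agent.H49.Stab Cfsg.Agent.H49.MatMcL

theorem mcl_false {m : ℕ} (h : EA 5 m ↥Spor.McL) : False := by
  have : Fact (Nat.Prime 5) := ⟨Nat.prime_five⟩
  have hfin : Finite ↥Spor.McL := (Cfsg.Agent.TypeM.FactsMcL.facts ⟨MulEquiv.refl _⟩).1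
  have W : ∀ {w w' : List ℕ}, eqB (xM M) w w' = true → (w.map mx).prod = (w'.map mx).prod := by
    intro w w' hw
    apply incM_injective
    rw [incM_word, incM_word]
    exact eq_of_eqB (xrep okM) hw
  have N : ∀ {w w' : List ℕ}, neB' (xM M) w w' = true → (w.map mx).prod ≠ (w'.map mx).prod := by
    intro w w' hw h0
    apply ne_of_neB' (xrep okM) hw
    rw [← incM_word, ← incM_word, h0]
  have hx : ∀ i < 32, mx (i + 32) = (mx i)⁻¹ := by
    intro i hi
    unfold mx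
    rw [if_neg (by omega), if_pos hi, Nat.add_sub_cancel]
  have e33 : mx 33 = (mx 1)⁻¹ := hx 1 (by norm_num)
  have e34 : mx 34 = (mx 2)⁻¹ := hx 2 (by norm_num)
  have h1 : mx 1 ^ 5 = 1 := by
    have := W c1
    rwa [List.map_replicate, List.prod_replicate] at this
  have h2 : mx 2 ^ 5 = 1 := by
    have := W c2
    rwa [List.map_replicate, List.prod_replicate] at this
  have h3 := W c3
  have h4 := W c4
  have h5 := N c5
  simp only [List.map_cons, List.map_nil, List.prod_cons, List.prod_nil, mul_one, e33, e34] at h3 h4 h5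
  refine heis_false h (x := mx 1) (y := mx 2) h1 h2 ?_ ?_ h5
  · rw [commutatorElement_def]
    simpa only [mul_assoc] using h3
  · rw [commutatorElement_def]
    simpa only [mul_assoc] using h4

end McL

section J4

open Cfsg.Agent.Lib.F2MatGroup Cfsg.Agent.J4.Rep112 Cfsg.Agent.H49.JFourEleven Cfsg.Agent.H49.Form

theorem j4_false {m : ℕ} (h : EA 11 m Cfsg.Spor.J4) : False := by
  have : Fact (Nat.Prime 11) := ⟨by norm_num⟩
  have hfin := finite_J4
  obtain ⟨he, hn⟩ := facts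
  generalize runG ws gens = L at he hn
  have h1 := he _ (show ([3, 3, 3, 3, 3, 3, 3, 3, 3, 3, 3], []) ∈ es by simp [es])
  have h2 := he _ (show ([2, 2, 2, 2, 2, 2, 2, 2, 2, 2, 2], []) ∈ es by simp [es])
  have h4 := he _ (show ([1, 3], []) ∈ es by simp [es])
  have h5 := he _ (show ([0, 2], []) ∈ es by simp [es])
  have h6 := he _ (show ([3, 2, 1, 0, 3], [3, 3, 2, 1, 0]) ∈ es by simp [es])
  have h7 := he _ (show ([3, 2, 1, 0, 2], [2, 3, 2, 1, 0]) ∈ es by simp [es])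
  have h10 := hn _ (show ([3, 2], [2, 3]) ∈ ns by simp [ns])
  simp only [evG_cons, evG_nil, mul_one] at h1 h2 h4 h5 h6 h7 h10
  generalize getG L 3 = x at *
  generalize getG L 2 = y at *
  have hx : getG L 1 = x⁻¹ := eq_inv_of_mul_eq_one_left h4
  have hy : getG L 0 = y⁻¹ := eq_inv_of_mul_eq_one_left h5
  rw [hx, hy] at h6 h7
  have g1 : x ^ 11 = 1 := by rw [← h1]; simp only [pow_succ', pow_zero, mul_one]
  have g2 : y ^ 11 = 1 := by rw [← h2]; simp only [pow_succ', pow_zero, mul_one]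
  have g3 : ⁅x, y⁆ * x = x * ⁅x, y⁆ := by
    rw [commutatorElement_def]; simpa only [mul_assoc] using h6
  have g4 : ⁅x, y⁆ * y = y * ⁅x, y⁆ := by
    rw [commutatorElement_def]; simpa only [mul_assoc] using h7
  exact heis_false h g1 g2 g3 g4 h10

end J4

/-! ### recognition from the order -/

theorem psp_pow {F : Type*} [Field F] [Fintype F] (hF : Odd (Fintype.card F)) {n : ℕ} (hn : 3 ≤ n) :
    ∃ r, r % 2 = 1 ∧ 3 ≤ r ∧ r ^ 9 ∣ Nat.card (Cfsg.PSp n F) := by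
  obtain ⟨r, hr⟩ := CharP.exists F
  have hrp : r.Prime := CharP.char_is_prime F r
  have hrf : Fact r.Prime := ⟨hrp⟩
  obtain ⟨k, -, hk⟩ := FiniteField.card F r
  have hk0 : (k : ℕ) ≠ 0 := k.ne_zero
  have hr2 : r ≠ 2 := by
    rintro rfl
    rw [hk] at hF
    exact (Nat.not_odd_iff_even.2 ((Nat.even_pow.2 ⟨even_two, hk0⟩))) hF
  refine ⟨r, Nat.odd_iff.1 (hrp.odd_of_ne_two hr2), by have := hrp.two_le; omega, ?_⟩
  have h1 := S0245.result (F := F) rfl n
  have h2 := S0246.result (F := F) rfl n (by omega)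
  have h3 := Subgroup.card_mul_index (Subgroup.center ↥(Matrix.symplecticGroup (Fin n) F))
  rw [h1, h2] at h3
  have h4 : Subgroup.index (Subgroup.center ↥(Matrix.symplecticGroup (Fin n) F)) = Nat.card (Cfsg.PSp n F) := rfl
  rw [h4] at h3
  have h5 : r ^ 9 ∣ Fintype.card F ^ (n ^ 2) := by
    rw [hk, ← pow_mul]
    refine pow_dvd_pow r ?_
    calc 9 = 1 * 3 ^ 2 := by norm_num
      _ ≤ k * n ^ 2 := Nat.mul_le_mul (by omega) (Nat.pow_le_pow_left hn 2)
  have h6 : r ^ 9 ∣ Nat.gcd 2 (Fintype.card F - 1) * Nat.card (Cfsg.PSp n F) := by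
    rw [h3]
    exact h5.mul_right _
  refine Nat.Coprime.dvd_of_dvd_mul_left (Nat.Coprime.pow_left _ ?_) h6
  have h7 : Nat.gcd 2 (Fintype.card F - 1) ∣ 2 := Nat.gcd_dvd_left _ _
  exact Nat.Coprime.coprime_dvd_right h7 ((Nat.coprime_primes hrp Nat.prime_two).2 hr2)

theorem chk_mcl : ∀ r < 10, r % 2 = 1 → 3 ≤ r → ¬ r ^ 9 ∣ 898128000 := by decide +kernel

theorem chk_j4 : ∀ r < 165, r % 2 = 1 → 3 ≤ r → ¬ r ^ 9 ∣ 86775571046077562880 := by decide +kernel

theorem lt_of_pow {r k N : ℕ} (h : r ^ 9 ∣ N) (hN : 0 < N) (hk : N < k ^ 9) : r < k := by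
  by_contra hc
  have h1 := Nat.le_of_dvd hN h
  have h2 : k ^ 9 ≤ r ^ 9 := Nat.pow_le_pow_left (by omega) 9
  omega

/-- recognition from the order -/
theorem recog (hE : EqSt.{u}) {L : Type u} [Group L] [Finite L] [IsSimpleGroup L] {M : Type} [Group M] [Finite M]
    [IsSimpleGroup M] (h : Nat.card L = Nat.card M) (h1 : Nat.card L ≠ 20160)
    (h2 : ∀ r, r % 2 = 1 → 3 ≤ r → ¬ r ^ 9 ∣ Nat.card L) : Nonempty (L ≃* M) := by
  rcases hE h with h3 | ((⟨-, F, _, _, hF, ⟨e⟩⟩ | ⟨-, F, _, _, hF, ⟨e⟩⟩) | ⟨F, _, _, n, hF, hn, ⟨-, ⟨e⟩⟩ | ⟨-, ⟨e⟩⟩⟩)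
  · exact h3
  · exact (h1 (h.trans (card_psl34 hF e))).elim
  · exact (h1 (card_psl34 hF e)).elim
  · obtain ⟨r, ho, hr, hd⟩ := psp_pow hF hn
    exact (h2 r ho hr (by rw [h, Nat.card_congr e.toEquiv]; exact hd)).elim
  · obtain ⟨r, ho, hr, hd⟩ := psp_pow hF hn
    exact (h2 r ho hr (by rw [Nat.card_congr e.toEquiv]; exact hd)).elim

theorem isMcL_false (hE : EqSt.{u}) {L : Type u} [Group L] [Finite L] {m : ℕ} (hL : Cfsg.IsMcL L) (h : EA 5 m L) :
    False := by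
  have : Fact (Nat.Prime 5) := ⟨Nat.prime_five⟩
  obtain ⟨hs, hc⟩ := hL
  obtain ⟨hfin, hs', hc', -⟩ := Cfsg.Agent.TypeM.FactsMcL.facts (M := ↥Spor.McL) ⟨MulEquiv.refl _⟩
  obtain ⟨e⟩ := recog hE (hc.trans hc'.symm) (by rw [hc]; norm_num) (by
    rw [hc]
    intro r ho hr hd
    exact chk_mcl r (lt_of_pow hd (by norm_num) (by norm_num)) ho hr hd)
  exact mcl_false (h.congr e)

theorem isJ4_false (hE : EqSt.{u}) {L : Type u} [Group L] [Finite L] {m : ℕ} (hL : Cfsg.IsJ4 L) (h : EA 11 m L) :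
    False := by
  have : Fact (Nat.Prime 11) := ⟨by norm_num⟩
  obtain ⟨hs, hc⟩ := hL
  obtain ⟨hs', hc'⟩ := Cfsg.Agent.S1703.result
  have hfin := Cfsg.Agent.H49.JFourEleven.finite_J4
  obtain ⟨e⟩ := recog hE (hc.trans hc'.symm) (by rw [hc]; norm_num) (by
    rw [hc]
    intro r ho hr hd
    exact chk_j4 r (lt_of_pow hd (by norm_num) (by norm_num)) ho hr hd)
  exact j4_false (h.congr e)

/-- **Simple groups with elementary abelian TI Sylow `p`-subgroups of order `p^m`, `m ≥ 2`**; the divisibility is needed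
for `m = 2` only. -/
theorem sim_two (hT : TISt.{u}) (hE : EqSt.{u}) {L : Type u} [Group L] [Finite L] [IsSimpleGroup L]
    (hna : ¬ IsMulCommutative L) {p m : ℕ} [hp : Fact p.Prime] (hm : 2 ≤ m) (h : EA p m L)
    (hd : p ≠ 2 → m = 2 → Nat.card L ∣ Nat.card (GL (Fin (2 * m)) (ZMod p))) :
    ∃ (F : Type) (_ : Field F) (_ : Fintype F), Fintype.card F = p ^ m ∧
      Nonempty (L ≃* Matrix.ProjectiveSpecialLinearGroup (Fin 2) F) := by
  refine sim_core hT hE hna hm h fun hx => ?_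
  rcases hx with h3 | ⟨rfl, hL | hL⟩ | ⟨rfl, hL⟩
  · exact spor_false_two h hd (Or.inl h3)
  · exact spor_false_two h hd (Or.inr ⟨rfl, hL⟩)
  · exact isMcL_false hE hL h
  · exact isJ4_false hE hL h

end Cfsg.Agent.H835.P4
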