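import Cfsg.Agent.H835.P4.Rk
import Cfsg.Agent.H835.P4.Mcj

/-!
# The structure part of `StRk` with divisibility for `m = 2` only (helper835, for S5210, S5261)
-/

set_option autoImplicit false

namespace Cfsg.Agent.H835.P4

open Subgroup Cfsg Cfsg.Agent Cfsg.Agent.H367.PU

universe u

/-- **The structure part of `StRk`**, the divisibility is needed for `m = 2` only. -/
theorem rk_struct' {G : Type u} [Group G] [Finite G] {p m : ℕ} [Fact p.Prime] (P : Sylow p G) (hm : 2 ≤ m)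
    (hTI : ∀ g : G, g ∉ Subgroup.normalizer ((P : Subgroup G) : Set G) → ∀ x ∈ (P : Subgroup G),
      g * x * g⁻¹ ∈ (P : Subgroup G) → x = 1)
    (hnn : ¬ (P : Subgroup G).Normal) (hP : Nat.card P = p ^ m)
    (hc : ∀ x ∈ (P : Subgroup G), ∀ y ∈ (P : Subgroup G), x * y = y * x)
    (hex : ∀ x ∈ (P : Subgroup G), x ^ p = 1)
    (hd : p ≠ 2 → m = 2 → Nat.card G ∣ Nat.card (GL (Fin (2 * m)) (ZMod p))) :
    ∃ (F : Type) (_ : Field F) (_ : Fintype F) (N : Subgroup G) (_ : N.Normal)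
      (f : Matrix.ProjectiveSpecialLinearGroup (Fin 2) F →* G ⧸ N), Fintype.card F = p ^ m ∧ CQ p N ∧
      Function.Injective f ∧ (∀ Q : Sylow p (G ⧸ N), (Q : Subgroup (G ⧸ N)) ≤ f.range) ∧ f.range.Normal ∧
      Nat.card (Sylow p G) = Nat.card (Sylow p (Matrix.ProjectiveSpecialLinearGroup (Fin 2) F)) := by
  obtain ⟨N, hNn, hN, L, hLn, hLs, hLna, hLP, hEA, hdvd, hcard⟩ := reduce outSt P hm hTI hnn hP hc hex
  obtain ⟨F, _, _, hF, ⟨e⟩⟩ := sim_two tiSt eqSt hLna hm hEA fun h2 h3 => hdvd.trans (hd h2 h3)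
  have hr : (L.subtype.comp e.symm.toMonoidHom).range = L := by
    rw [MonoidHom.range_comp, MonoidHom.range_eq_top.2 e.symm.surjective, ← MonoidHom.range_eq_map,
      Subgroup.range_subtype]
  refine ⟨F, inferInstance, inferInstance, N, hNn, L.subtype.comp e.symm.toMonoidHom, hF, hN,
    L.subtype_injective.comp e.symm.injective, ?_, ?_, ?_⟩
  · rw [hr]
    exact hLP
  · rw [hr]
    exact hLn
  · rw [hcard]
    exact card_sylow_congr e p

end Cfsg.Agent.H835.P4
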