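import Cfsg.Agent.H835.P4.Red
import Cfsg.Agent.H664.R1.U3Iso
import Cfsg.Agent.H664.R1.U3Char

/-!
# The Sylow `p`-subgroups of `PSU(3,p^n)` are not abelian (helper835, for S5210 P4-RKa)
-/

set_option autoImplicit false

namespace Cfsg.Agent.H835.P4

open Subgroup Matrix Cfsg Cfsg.Agent.H664.R1 Cfsg.Agent.H664.R1.U3 Cfsg.Agent.LieRecognition.PSUThreeSylow

theorem psu_false {F : Type*} [Field F] [Fintype F] {p m n : ℕ} [hp : Fact p.Prime]
    (hF : Fintype.card F = (p ^ n) ^ 2) (hn : 1 ≤ n) (h : EA p m (Cfsg.PSU 3 F (p ^ n))) : False := by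
  obtain ⟨σ, hσ, hs, ⟨e⟩⟩ := exists_iso hF
  have hfin : Finite (S σ) := Finite.of_equiv _ e.toEquiv
  have h' : EA p m (S σ) := h.congr e
  have hU := card_US (σ := σ) hF hs
  have hpU : IsPGroup p (spS σ).U := by
    rw [IsPGroup.iff_card]
    exact ⟨n * 3, by rw [hU, ← pow_mul]⟩
  obtain ⟨R, hR⟩ := hpU.exists_le_sylow
  have hU' : ∀ g : GUJ σ, g ∈ Un σ → pr σ g ∈ S σ := fun g hg => ⟨g, Un_le_SUs hg, rfl⟩
  -- the elements commute
  have key : ∀ (a b : F) (hab : b + σ b + a * σ a = 0) (c d : F) (hcd : d + σ d + c * σ c = 0),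
      un a b hab * un c d hcd = un c d hcd * un a b hab := by
    intro a b hab c d hcd
    have h1 : (⟨pr σ (un a b hab), hU' _ (un_mem _ _ _)⟩ : S σ) ∈ R := hR ⟨_, un_mem _ _ _, rfl⟩
    have h2 : (⟨pr σ (un c d hcd), hU' _ (un_mem _ _ _)⟩ : S σ) ∈ R := hR ⟨_, un_mem _ _ _, rfl⟩
    have h3 := congrArg Subtype.val (h'.comm R _ h1 _ h2)
    have h4 : pr σ (un a b hab * un c d hcd) = pr σ (un c d hcd * un a b hab) := by
      rw [map_mul, map_mul]
      exact h3
    have h5 : (un a b hab * un c d hcd)⁻¹ * (un c d hcd * un a b hab) ∈ Sc σ := QuotientGroup.eq.1 h4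
    have h6 := Un_disj (mul_mem (inv_mem (mul_mem (un_mem _ _ _) (un_mem _ _ _)))
      (mul_mem (un_mem _ _ _) (un_mem _ _ _))) h5
    exact inv_mul_eq_one.1 h6
  have hfix : ∀ a : F, σ a = a := by
    intro a
    obtain ⟨b, hb⟩ := exists_snd hF hs a
    obtain ⟨d, hd⟩ := exists_snd hF hs 1
    have h1 := congrArg (fun g => mat σ g) (key a b hb 1 d hd)
    simp only [mat_mul, mat_un] at h1
    have h2 := congrFun (congrFun h1 0) 2
    simp [Matrix.mul_apply, Fin.sum_univ_three] at h2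
    linear_combination h2
  have h1 : ∀ x : F, x ^ (p ^ n) = x := fun x => by rw [← hs, hfix]
  have h2 : 2 ≤ p ^ n := hp.out.two_le.trans (Nat.le_self_pow (by omega) p)
  -- too many roots
  have h4 : (Polynomial.X ^ (p ^ n) - Polynomial.X : Polynomial F) ≠ 0 := FiniteField.X_pow_card_sub_X_ne_zero F (by omega)
  have h5 : (Polynomial.X ^ (p ^ n) - Polynomial.X : Polynomial F).natDegree = p ^ n :=
    FiniteField.X_pow_card_sub_X_natDegree_eq F (by omega)
  have h6 : Fintype.card F ≤ p ^ n := by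
    classical
    have h7 : (Finset.univ : Finset F) ⊆ (Polynomial.X ^ (p ^ n) - Polynomial.X : Polynomial F).roots.toFinset := by
      intro x _
      rw [Multiset.mem_toFinset, Polynomial.mem_roots h4]
      simp [h1 x]
    have h8 := Finset.card_le_card h7
    rw [Finset.card_univ] at h8
    refine h8.trans ((Multiset.toFinset_card_le _).trans ?_)
    exact (Polynomial.card_roots' (Polynomial.X ^ (p ^ n) - Polynomial.X : Polynomial F)).trans h5.le
  rw [hF] at h6
  nlinarith

end Cfsg.Agent.H835.P4
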