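import Cfsg.Agent.H367.PU.Quo
import Cfsg.Agent.H334.TI.SocleCore

/-!
# S5210, P4-RKa: reduction of the structure part to simple groups (helper835)

* `EA p m G` : the Sylow `p`-subgroups of `G` are TI and elementary abelian of order `p^m`;
* `reduce` : from a group with TI non-normal elementary abelian Sylow subgroups of rank at least two to a simple group
  containing (modulo the `p'`-core, which centralizes the Sylow subgroups) all Sylow subgroups.
-/

set_option autoImplicit false
set_option linter.unusedSectionVars false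

namespace Cfsg.Agent.H835.P4

open Subgroup Cfsg Cfsg.Agent Cfsg.Agent.H666.TI Cfsg.Agent.H367.PU
open scoped Pointwise

universe u

/-- the Sylow `p`-subgroups are TI and elementary abelian of order `p^m` -/
structure EA (p m : ℕ) (L : Type*) [Group L] : Prop where
  ti : IsTI p L
  card : ∀ R : Sylow p L, Nat.card R = p ^ m
  comm : ∀ R : Sylow p L, ∀ x ∈ R, ∀ y ∈ R, x * y = y * x
  exp : ∀ R : Sylow p L, ∀ x ∈ R, x ^ p = 1

section

variable {G : Type*} [Group G] [Finite G] {p m : ℕ} [hp : Fact p.Prime]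

/-- from one Sylow subgroup -/
theorem EA.of (hTI : IsTI p G) (P : Sylow p G) (hP : Nat.card P = p ^ m)
    (hc : ∀ x ∈ P, ∀ y ∈ P, x * y = y * x) (hex : ∀ x ∈ P, x ^ p = 1) : EA p m G := by
  refine ⟨hTI, fun R => (card_eq_card' R P).trans hP, fun R x hx y hy => ?_, fun R x hx => ?_⟩
  · let e := Sylow.equiv R P
    have h1 : (⟨x, hx⟩ : (R : Subgroup G)) * ⟨y, hy⟩ = ⟨y, hy⟩ * ⟨x, hx⟩ := by
      apply e.injective
      rw [map_mul, map_mul]
      exact Subtype.ext (hc _ (e ⟨x, hx⟩).2 _ (e ⟨y, hy⟩).2)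
    exact congrArg Subtype.val h1
  · let e := Sylow.equiv R P
    have h1 : (⟨x, hx⟩ : (R : Subgroup G)) ^ p = 1 := by
      apply e.injective
      rw [map_pow, map_one]
      exact Subtype.ext (hex _ (e ⟨x, hx⟩).2)
    exact congrArg Subtype.val h1

variable (h : EA p m G)
include h

theorem EA.not_cyclic (hm : 2 ≤ m) (R : Sylow p G) : ¬ IsCyclic (R : Subgroup G) := by
  intro hc
  obtain ⟨g, hg⟩ := hc.exists_generator
  have h2 : orderOf g = Nat.card (R : Subgroup G) := orderOf_eq_card_of_forall_mem_zpowers hg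
  have h3 : g ^ p = 1 := Subtype.ext (h.exp R g.1 g.2)
  have h4 := orderOf_dvd_of_pow_eq_one h3
  have h5 : Nat.card (R : Subgroup G) = p ^ m := h.card R
  rw [h2, h5] at h4
  have h6 := Nat.le_of_dvd hp.out.pos h4
  have h7 : p ^ 1 < p ^ m := Nat.pow_lt_pow_right hp.out.one_lt (by omega)
  rw [pow_one] at h7
  omega

/-- the quotient by a `p'`-core centralizing the Sylow subgroups -/
theorem EA.quot {N : Subgroup G} [N.Normal] (hN : CQ p N) : EA p m (G ⧸ N) := by
  obtain ⟨P⟩ : Nonempty (Sylow p G) := inferInstance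
  obtain ⟨e, he⟩ := hN.exists_equiv (P := P) (P' := P.mapSurjective (QuotientGroup.mk'_surjective N)) rfl
  refine EA.of (hN.isTI h.ti) (P.mapSurjective (QuotientGroup.mk'_surjective N)) ?_ ?_ ?_
  · exact (Nat.card_congr e.toEquiv).symm.trans (h.card P)
  · rintro _ ⟨x, hx, rfl⟩ _ ⟨y, hy, rfl⟩
    rw [← map_mul, ← map_mul, h.comm P x hx y hy]
  · rintro _ ⟨x, hx, rfl⟩
    rw [← map_pow, h.exp P x hx, map_one]

/-- subgroups containing a Sylow subgroup -/
theorem EA.subgroup {L : Subgroup G} (P : Sylow p G) (hPL : (P : Subgroup G) ≤ L) : EA p m L := by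
  refine EA.of (h.ti.subgroup L) (P.subtype hPL) ?_ ?_ ?_
  · rw [← h.card P]
    exact Nat.card_congr (Subgroup.subgroupOfEquivOfLe hPL).toEquiv
  · intro x hx y hy
    exact Subtype.ext (h.comm P x.1 hx y.1 hy)
  · intro x hx
    exact Subtype.ext (h.exp P x.1 hx)

omit h in
theorem EA.congr {H : Type*} [Group H] (h : EA p m G) (e : G ≃* H) : EA p m H := by
  have : Finite H := Finite.of_equiv _ e.toEquiv
  obtain ⟨P⟩ : Nonempty (Sylow p G) := inferInstance
  refine EA.of (h.ti.congr e) (P.mapSurjective (f := e.toMonoidHom) e.surjective) ?_ ?_ ?_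
  · rw [← h.card P]
    exact Nat.card_congr (e.subgroupMap (P : Subgroup G)).symm.toEquiv
  · rintro _ ⟨x, hx, rfl⟩ _ ⟨y, hy, rfl⟩
    rw [← map_mul, ← map_mul, h.comm P x hx y hy]
  · rintro _ ⟨x, hx, rfl⟩
    rw [← map_pow, h.exp P x hx, map_one]

end

/-- the text of S4076 -/
def OutSt : Prop :=
  ∀ {S : Type u} [Group S] [Finite S] [IsSimpleGroup S], ¬ IsMulCommutative S → ∀ {p : ℕ} [Fact p.Prime],
    p ∣ Nat.card S → ∀ X : Subgroup (MulAut S), (MulAut.conj : S →* MulAut S).range ≤ X →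
    p ∣ ((MulAut.conj : S →* MulAut S).range).relIndex X → ∀ P : Sylow p ↥X, ¬ IsMulCommutative P

/-- all Sylow subgroups lie in the simple normal subgroup with trivial centralizer -/
theorem sylow_le (hO : OutSt.{u}) {X : Type u} [Group X] [Finite X] {p m : ℕ} [hp : Fact p.Prime] (h : EA p m X)
    {L : Subgroup X} (hL : L.Normal) (hs : IsSimpleGroup L) (hna : ¬ IsMulCommutative L)
    (hcen : centralizer (L : Set X) = ⊥) (hd : p ∣ Nat.card L) (Q : Sylow p X) : (Q : Subgroup X) ≤ L := by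
  -- `p` does not divide the index
  have key : ¬ p ∣ L.index := by
    intro hidx
    let φ : X →* MulAut L := MulAut.conjNormal
    have hφ : Function.Injective φ := by
      rw [injective_iff_map_eq_one]
      intro x hx
      have h1 : x ∈ centralizer (L : Set X) := by
        rw [mem_centralizer_iff]
        intro y hy
        have h2 := congrArg (fun f : MulAut L => ((f ⟨y, hy⟩ : L) : X)) hx
        have h3 : x * y * x⁻¹ = y := by
          simpa [φ, MulAut.conjNormal_apply] using h2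
        rw [mul_inv_eq_iff_eq_mul] at h3
        exact h3.symm
      rw [hcen, mem_bot] at h1
      exact h1
    have hmap : (MulAut.conj : L →* MulAut L).range = L.map φ := by
      ext f
      constructor
      · rintro ⟨l, rfl⟩
        refine ⟨l.1, l.2, ?_⟩
        ext y
        simp [φ, MulAut.conjNormal_apply]
      · rintro ⟨l, hl, rfl⟩
        refine ⟨⟨l, hl⟩, ?_⟩
        ext y
        simp [φ, MulAut.conjNormal_apply]
    have hle : (MulAut.conj : L →* MulAut L).range ≤ φ.range := by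
      rw [hmap]
      exact map_le_range φ L
    have hrel : ((MulAut.conj : L →* MulAut L).range).relIndex φ.range = L.index := by
      rw [hmap, MonoidHom.range_eq_map, Subgroup.relIndex_map_map_of_injective _ _ hφ, Subgroup.relIndex_top_right]
    let e : X ≃* φ.range := MonoidHom.ofInjective hφ
    have hfin : Finite φ.range := Finite.of_equiv _ e.toEquiv
    obtain ⟨T⟩ : Nonempty (Sylow p φ.range) := inferInstance
    refine hO hna hd φ.range hle (by rw [hrel]; exact hidx) T ?_
    have h4 := h.congr e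
    exact ⟨⟨fun a b => Subtype.ext (h4.comm T a.1 a.2 b.1 b.2)⟩⟩
  -- so `Q ≤ L`
  intro x hx
  have h1 : PElt p x := pElt_of_mem Q.isPGroup' hx
  have h2 : PElt p (QuotientGroup.mk' L x) := h1.map _
  have h3 : (QuotientGroup.mk' L x) ^ L.index = 1 := by
    have : Finite (X ⧸ L) := inferInstance
    rw [Subgroup.index_eq_card]
    exact pow_card_eq_one'
  have h4 := h2.eq_one h3 key
  exact (QuotientGroup.eq_one_iff x).1 h4

/-- **The reduction.** -/
theorem reduce (hO : OutSt.{u}) {G : Type u} [Group G] [Finite G] {p m : ℕ} [hp : Fact p.Prime] (P : Sylow p G)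
    (hm : 2 ≤ m)
    (hTI : ∀ g : G, g ∉ Subgroup.normalizer ((P : Subgroup G) : Set G) → ∀ x ∈ (P : Subgroup G),
      g * x * g⁻¹ ∈ (P : Subgroup G) → x = 1)
    (hnn : ¬ (P : Subgroup G).Normal) (hP : Nat.card P = p ^ m)
    (hc : ∀ x ∈ (P : Subgroup G), ∀ y ∈ (P : Subgroup G), x * y = y * x) (hex : ∀ x ∈ (P : Subgroup G), x ^ p = 1) :
    ∃ (N : Subgroup G) (_ : N.Normal), CQ p N ∧ ∃ L : Subgroup (G ⧸ N), L.Normal ∧ IsSimpleGroup L ∧
      ¬ IsMulCommutative L ∧ (∀ Q : Sylow p (G ⧸ N), (Q : Subgroup (G ⧸ N)) ≤ L) ∧ EA p m L ∧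
      Nat.card L ∣ Nat.card G ∧ Nat.card (Sylow p G) = Nat.card (Sylow p L) := by
  have hti : IsTI p G := isTI_of_hyp P hTI
  have hEA : EA p m G := EA.of hti P hP hc hex
  have hNn : (pPrimeCore p G).Normal := inferInstance
  have hN : CQ p (pPrimeCore p G) := by
    refine ⟨inferInstance, Lib.Cores.pPrimeCore_coprime p, fun Q x hx y hy => ?_⟩
    have : IsMulCommutative (Q : Subgroup G) :=
      ⟨⟨fun a b => Subtype.ext (hEA.comm Q a.1 a.2 b.1 b.2)⟩⟩
    exact core_comm hti Q (A := (Q : Subgroup G)) le_rfl (hEA.not_cyclic hm Q) hx hy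
  have hX : EA p m (G ⧸ pPrimeCore p G) := hEA.quot hN
  -- more than one Sylow subgroup
  have hcard : Nat.card (Sylow p (G ⧸ pPrimeCore p G)) = Nat.card (Sylow p G) := hN.card_sylow
  have hns : ¬ Subsingleton (Sylow p (G ⧸ pPrimeCore p G)) := by
    intro h1
    have h2 : Nat.card (Sylow p G) = 1 := by
      rw [← hcard]
      exact Nat.card_eq_one_iff_unique.2 ⟨h1, inferInstance⟩
    obtain ⟨h3, -⟩ := Nat.card_eq_one_iff_unique.1 h2
    apply hnn
    refine ⟨fun x hx g => ?_⟩
    have h4 : g • P = P := Subsingleton.elim _ _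
    have h5 : ((g • P : Sylow p G) : Subgroup G) = P := by rw [h4]
    rw [← h5]
    exact ⟨x, hx, rfl⟩
  have h1 : ∀ Q : Subgroup (G ⧸ pPrimeCore p G), Q.Normal → ¬ p ∣ Nat.card Q → Q = ⊥ := by
    intro Q hQ hd
    have h2 := Lib.Cores.le_pPrimeCore hQ (((Nat.Prime.coprime_iff_not_dvd hp.out).2 hd).symm)
    rw [Lib.Cores.pPrimeCore_quotient_pPrimeCore] at h2
    exact le_bot_iff.1 h2
  have h2 : ∀ Q : Subgroup (G ⧸ pPrimeCore p G), Q.Normal → IsPGroup p Q → Q = ⊥ := by
    intro Q hQ hQp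
    by_contra hne
    obtain ⟨x, hx⟩ := Subgroup.ne_bot_iff_exists_ne_one.1 hne
    apply hns
    refine ⟨fun R R' => ?_⟩
    have h3 : ∀ R : Sylow p (G ⧸ pPrimeCore p G), (x : G ⧸ pPrimeCore p G) ∈ R := fun R =>
      (Lib.Cores.pCore_le_sylow R) (Lib.Cores.le_pCore hQ hQp x.2)
    exact hX.ti.sylow_eq (h3 R) (h3 R') fun h4 => hx (Subtype.ext h4)
  have h3 : p ∣ Nat.card (G ⧸ pPrimeCore p G) := by
    obtain ⟨R⟩ : Nonempty (Sylow p (G ⧸ pPrimeCore p G)) := inferInstance
    have h4 : p ∣ Nat.card (R : Subgroup (G ⧸ pPrimeCore p G)) := by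
      rw [show Nat.card (R : Subgroup (G ⧸ pPrimeCore p G)) = p ^ m from hX.card R]
      exact dvd_pow_self p (by omega)
    exact h4.trans (Subgroup.card_subgroup_dvd_card _)
  obtain ⟨L, hLn, hLs, hLna, hLc, hLd⟩ := Cfsg.Agent.H334.TI.socle hX.ti h1 h2 h3
  have hle := sylow_le hO hX hLn hLs hLna hLc hLd
  refine ⟨pPrimeCore p G, hNn, hN, L, hLn, hLs, hLna, hle, ?_, ?_, ?_⟩
  · obtain ⟨R⟩ : Nonempty (Sylow p (G ⧸ pPrimeCore p G)) := inferInstance
    exact hX.subgroup R (hle R)
  · exact (Subgroup.card_subgroup_dvd_card L).trans (Subgroup.card_quotient_dvd_card _)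
  · rw [← hcard]
    exact (card_sylow_normal (K := L) hX.ti hLd).symm

end Cfsg.Agent.H835.P4
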