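import Cfsg.Agent.H835.P4.Red
import Cfsg.Agent.S1154
import Cfsg.Agent.S1101

/-!
# The Sylow `3`-subgroups of the small Ree groups have not exponent three (helper835, for S5210 P4-RKa)
-/

set_option autoImplicit false

namespace Cfsg.Agent.H835.P4

open Subgroup

theorem ree_false {K : Type*} [Field K] [Fintype K] {k m : ℕ} (hk : 1 ≤ k) (hK : Fintype.card K = 3 ^ (2 * k + 1))
    (h : EA 3 m ↥(Cfsg.Lie.twistedG2 K (3 ^ k))) : False := by
  have : Fact (Nat.Prime 3) := ⟨Nat.prime_three⟩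
  have hfin : Finite ↥(Cfsg.Lie.twistedG2 K (3 ^ k)) := inferInstance
  have h1 := Cfsg.Agent.S1154.result hk hK
  have h2 := (Cfsg.Agent.S1101.result (m := k) hK).2
  set U := Cfsg.Lie.chevG2.posUnipotent K ⊓ Cfsg.Lie.twistedG2 K (3 ^ k) with hU
  have hp : IsPGroup 3 (U.subgroupOf (Cfsg.Lie.twistedG2 K (3 ^ k))) := by
    rw [IsPGroup.iff_card]
    refine ⟨(2 * k + 1) * 3, ?_⟩
    rw [Nat.card_congr (Subgroup.subgroupOfEquivOfLe (inf_le_right : U ≤ _)).toEquiv, h2, ← pow_mul]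
  obtain ⟨R, hR⟩ := hp.exists_le_sylow
  have h3 : ∀ u : U, u ^ 3 = 1 := by
    rintro ⟨u, hu⟩
    have h4 := h.exp R ⟨u, hu.2⟩ (hR hu)
    have h5 := congrArg Subtype.val h4
    exact Subtype.ext h5
  have h4 : Nat.card {u : U // orderOf u = 3} = Nat.card U - 1 := by
    classical
    have : Fintype U := Fintype.ofFinite _
    have h5 : ∀ u : U, orderOf u = 3 ↔ u ≠ 1 := fun u =>
      ⟨fun h6 h7 => by rw [h7, orderOf_one] at h6; omega, fun h6 => orderOf_eq_prime (h3 u) h6⟩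
    rw [Nat.card_congr (Equiv.subtypeEquivRight h5), Nat.card_eq_fintype_card, Nat.card_eq_fintype_card,
      Fintype.card_subtype_compl, Fintype.card_subtype_eq]
  rw [h1, h2] at h4
  have h5 : 27 ≤ 3 ^ (2 * k + 1) := by
    calc 27 = 3 ^ 3 := by norm_num
      _ ≤ 3 ^ (2 * k + 1) := Nat.pow_le_pow_right (by norm_num) (by omega)
  have h6 : (3 ^ (2 * k + 1)) ^ 2 < (3 ^ (2 * k + 1)) ^ 3 := Nat.pow_lt_pow_right (by omega) (by norm_num)
  have h7 : 0 < (3 ^ (2 * k + 1)) ^ 2 := by positivity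
  omega

end Cfsg.Agent.H835.P4
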