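import Cfsg.Agent.H835.P4.Rk
import Cfsg.Agent.H417.P4.RkCq

/-!
# S5210: `StRk` (RKa: helper835, RKb: helper417)
-/

set_option autoImplicit false

namespace Cfsg.Agent.H835.P4

universe u

/-- **(RK)** -/
theorem stRk : Cfsg.Agent.H776.P4.StRk.{u} := by
  refine Cfsg.Agent.H417.P4.stRk_of_cq ?_
  intro G _ _ p m _ P hm hTI hn hP hab hexp hd
  obtain ⟨F, _, _, N, hNn, f, hF, hN, hf, hr, -⟩ := rk_struct P hm hTI hn hP hab hexp hd
  exact ⟨F, inferInstance, inferInstance, N, hNn, f, hF, hN, hf, hr⟩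

end Cfsg.Agent.H835.P4
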