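import Cfsg.Agent.H835.P4.Psu
import Cfsg.Agent.H835.P4.Ree
import Cfsg.Agent.H331.SCExc
import Cfsg.Agent.LThreeFour.Exists
import Cfsg.Agent.S1069
import Cfsg.Agent.S1073
import Cfsg.Agent.S0245
import Cfsg.Agent.S0246
import Cfsg.Agent.ClassicalGeometry.PSL2Basic
import Cfsg.Prelude.Def_Sporadic

/-!
# S5210, P4-RKa: simple groups with elementary abelian TI Sylow subgroups (helper835)

`sim` : the list of S4749 reduces to `PSL(2,p^m)`, from the texts of S4749 and S3724.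
-/

set_option autoImplicit false
set_option linter.unusedSectionVars false

namespace Cfsg.Agent.H835.P4

open Subgroup Cfsg Cfsg.Agent Cfsg.Agent.H666.TI
open scoped Pointwise

universe u

section

variable {L : Type*} [Group L] [Finite L] {p m : ℕ} [hp : Fact p.Prime]

theorem EA.pow_dvd (h : EA p m L) : p ^ m ∣ Nat.card L := by
  obtain ⟨R⟩ : Nonempty (Sylow p L) := inferInstance
  rw [← h.card R]
  exact Subgroup.card_subgroup_dvd_card _

theorem EA.not_dvd (h : EA p m L) : ¬ p ^ (m + 1) ∣ Nat.card L := by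
  obtain ⟨R⟩ : Nonempty (Sylow p L) := inferInstance
  have h1 := R.card_eq_multiplicity
  have h2 : m = (Nat.card L).factorization p := Nat.pow_right_injective hp.out.two_le ((h.card R).symm.trans h1)
  intro hd
  have h3 := (hp.out.pow_dvd_iff_le_factorization Nat.card_pos.ne').1 hd
  omega

theorem EA.le_of (h : EA p m L) {k : ℕ} (hk : p ^ k ∣ Nat.card L) : k ≤ m := by
  by_contra hc
  exact h.not_dvd ((pow_dvd_pow p (by omega)).trans hk)

theorem EA.ge_of (h : EA p m L) {k : ℕ} (hk : ¬ p ^ (k + 1) ∣ Nat.card L) : m ≤ k := by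
  by_contra hc
  exact hk ((pow_dvd_pow p (by omega)).trans h.pow_dvd)

end

/-! ### orders of linear groups -/

theorem gl43 : Nat.card (GL (Fin 4) (ZMod 3)) = 24261120 := by
  have : Fact (Nat.Prime 3) := ⟨Nat.prime_three⟩
  rw [Matrix.card_GL_field, ZMod.card]
  simp [Fin.prod_univ_succ]

theorem gl45 : Nat.card (GL (Fin 4) (ZMod 5)) = 116064000000 := by
  have : Fact (Nat.Prime 5) := ⟨Nat.prime_five⟩
  rw [Matrix.card_GL_field, ZMod.card]
  simp [Fin.prod_univ_succ]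

theorem gl65 : Nat.card (GL (Fin 6) (ZMod 5)) = 15624 * 15620 * 15600 * 15500 * 15000 * 12500 := by
  have : Fact (Nat.Prime 5) := ⟨Nat.prime_five⟩
  rw [Matrix.card_GL_field, ZMod.card]
  simp [Fin.prod_univ_succ]

theorem gl611 : Nat.card (GL (Fin 6) (ZMod 11)) = 1771560 * 1771550 * 1771440 * 1770230 * 1756920 * 1610510 := by
  have : Fact (Nat.Prime 11) := ⟨by norm_num⟩
  rw [Matrix.card_GL_field, ZMod.card]
  simp [Fin.prod_univ_succ]

/-! ### the exceptions -/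

theorem suz_false {L : Type*} [Group L] [Finite L] {m : ℕ} (hL : Cfsg.IsSuzuki L) (h : EA 2 m L) : False := by
  have : Fact (Nat.Prime 2) := ⟨Nat.prime_two⟩
  obtain ⟨P⟩ : Nonempty (Sylow 2 L) := inferInstance
  obtain ⟨x, y, hxy⟩ := (H331.SCExc.sylow_isoSuzuki (H331.SCExc.isoSuzuki_of_isSuzuki hL) P).nab
  exact hxy (Subtype.ext (h.comm P x.1 x.2 y.1 y.2))

/-- the exceptional orders -/
theorem spor_false {L : Type*} [Group L] [Finite L] {p m : ℕ} [hp : Fact p.Prime] (h : EA p m L)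
    (hd : p ≠ 2 → Nat.card L ∣ Nat.card (GL (Fin (2 * m)) (ZMod p)))
    (hL : (p = 3 ∧ (Nat.card L = 20160 ∨ Nat.card L = 7920)) ∨ (p = 5 ∧ (Nat.card L = 17971200 ∨ Nat.card L = 898128000)) ∨
      (p = 11 ∧ Nat.card L = 86775571046077562880)) : False := by
  rcases hL with ⟨rfl, hL⟩ | ⟨rfl, hL⟩ | ⟨rfl, hL⟩
  · have hd := hd (by norm_num)
    have h1 : m = 2 := by
      apply le_antisymm
      · apply h.ge_of
        rcases hL with hL | hL <;> rw [hL] <;> norm_num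
      · apply h.le_of
        rcases hL with hL | hL <;> rw [hL] <;> norm_num
    subst h1
    rw [show 2 * 2 = 4 by norm_num, gl43] at hd
    rcases hL with hL | hL <;> rw [hL] at hd <;> norm_num at hd
  · have hd := hd (by norm_num)
    rcases hL with hL | hL
    · have h1 : m = 2 := by
        apply le_antisymm
        · apply h.ge_of
          rw [hL]
          norm_num
        · apply h.le_of
          rw [hL]
          norm_num
      subst h1
      rw [show 2 * 2 = 4 by norm_num, gl45, hL] at hd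
      norm_num at hd
    · have h1 : m = 3 := by
        apply le_antisymm
        · apply h.ge_of
          rw [hL]
          norm_num
        · apply h.le_of
          rw [hL]
          norm_num
      subst h1
      rw [show 2 * 3 = 6 by norm_num, gl65, hL] at hd
      norm_num at hd
  · have hd := hd (by norm_num)
    have h1 : m = 3 := by
      apply le_antisymm
      · apply h.ge_of
        rw [hL]
        norm_num
      · apply h.le_of
        rw [hL]
        norm_num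
    subst h1
    rw [show 2 * 3 = 6 by norm_num, gl611, hL] at hd
    norm_num at hd

/-- the exceptional orders with `m = 2` -/
theorem spor_false_two {L : Type*} [Group L] [Finite L] {p m : ℕ} [hp : Fact p.Prime] (h : EA p m L)
    (hd : p ≠ 2 → m = 2 → Nat.card L ∣ Nat.card (GL (Fin (2 * m)) (ZMod p)))
    (hL : (p = 3 ∧ (Nat.card L = 20160 ∨ Nat.card L = 7920)) ∨ (p = 5 ∧ Nat.card L = 17971200)) : False := by
  have h1 : m = 2 := by
    rcases hL with ⟨rfl, hL⟩ | ⟨rfl, hL⟩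
    · apply le_antisymm
      · apply h.ge_of
        rcases hL with hL | hL <;> rw [hL] <;> norm_num
      · apply h.le_of
        rcases hL with hL | hL <;> rw [hL] <;> norm_num
    · apply le_antisymm
      · apply h.ge_of
        rw [hL]
        norm_num
      · apply h.le_of
        rw [hL]
        norm_num
  refine spor_false h (fun h2 => hd h2 h1) ?_
  rcases hL with hL | hL
  · exact Or.inl hL
  · exact Or.inr (Or.inl ⟨hL.1, Or.inl hL.2⟩)

/-- the text of S3724 -/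
def EqSt : Prop :=
  ∀ {G : Type u} {M : Type} [Group G] [Finite G] [IsSimpleGroup G] [Group M] [Finite M] [IsSimpleGroup M],
    Nat.card G = Nat.card M →
    Nonempty (G ≃* M) ∨
    ((Nonempty (G ≃* ↥(alternatingGroup (Fin 8))) ∧ ∃ (F : Type) (_ : Field F) (_ : Fintype F), Fintype.card F = 4 ∧ Nonempty (M ≃* Matrix.ProjectiveSpecialLinearGroup (Fin 3) F)) ∨
     (Nonempty (M ≃* ↥(alternatingGroup (Fin 8))) ∧ ∃ (F : Type) (_ : Field F) (_ : Fintype F), Fintype.card F = 4 ∧ Nonempty (G ≃* Matrix.ProjectiveSpecialLinearGroup (Fin 3) F))) ∨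
    (∃ (F : Type) (_ : Field F) (_ : Fintype F) (n : ℕ), Odd (Fintype.card F) ∧ 3 ≤ n ∧
      ((Nonempty (G ≃* Cfsg.POmega F (Cfsg.quadFormOdd n F)) ∧ Nonempty (M ≃* Cfsg.PSp n F)) ∨
       (Nonempty (M ≃* Cfsg.POmega F (Cfsg.quadFormOdd n F)) ∧ Nonempty (G ≃* Cfsg.PSp n F))))

theorem card_psl34 {L : Type*} [Group L] {F : Type*} [Field F] [Fintype F] (hF : Fintype.card F = 4)
    (e : L ≃* Matrix.ProjectiveSpecialLinearGroup (Fin 3) F) : Nat.card L = 20160 := by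
  obtain ⟨A⟩ := LThreeFour.exists_dat hF e
  exact A.card

theorem sixteen_dvd {F : Type*} [Field F] [Fintype F] (hF : Odd (Fintype.card F)) {n : ℕ} (hn : 3 ≤ n) :
    16 ∣ Nat.card (Cfsg.PSp n F) := by
  have h1 := S0245.result (F := F) rfl n
  have h2 := S0246.result (F := F) rfl n (by omega)
  have h3 := Subgroup.card_mul_index (Subgroup.center ↥(Matrix.symplecticGroup (Fin n) F))
  rw [h1, h2] at h3
  have h4 : Subgroup.index (Subgroup.center ↥(Matrix.symplecticGroup (Fin n) F)) = Nat.card (Cfsg.PSp n F) := rfl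
  rw [h4] at h3
  set q := Fintype.card F with hq
  have hq3 : 8 ∣ q ^ 2 - 1 := by
    obtain ⟨k, hk⟩ := hF
    rw [hk]
    have h5 : (2 * k + 1) ^ 2 - 1 = 4 * (k * (k + 1)) := by
      have : (2 * k + 1) ^ 2 = 4 * (k * (k + 1)) + 1 := by ring
      omega
    rw [h5]
    obtain ⟨j, hj⟩ := Nat.even_mul_succ_self k
    exact ⟨j, by rw [hj]; ring⟩
  have hdvd : ∀ i, 8 ∣ q ^ (2 * (i + 1)) - 1 := by
    intro i
    rw [pow_mul]
    have h5 : q ^ 2 - 1 ∣ (q ^ 2) ^ (i + 1) - 1 := by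
      have := Nat.sub_dvd_pow_sub_pow (q ^ 2) 1 (i + 1)
      rwa [one_pow] at this
    exact hq3.trans h5
  have h5 : 8 ^ 3 ∣ ∏ i ∈ Finset.range n, (q ^ (2 * (i + 1)) - 1) := by
    have h6 : ∏ i ∈ Finset.range 3, (q ^ (2 * (i + 1)) - 1) ∣ ∏ i ∈ Finset.range n, (q ^ (2 * (i + 1)) - 1) :=
      Finset.prod_dvd_prod_of_subset _ _ _ (Finset.range_subset_range.2 hn)
    refine dvd_trans ?_ h6
    have h7 : (8 : ℕ) ^ 3 = ∏ i ∈ Finset.range 3, 8 := by simp
    rw [h7]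
    exact Finset.prod_dvd_prod_of_dvd _ _ fun i _ => hdvd i
  have h6 : 8 ^ 3 ∣ Nat.gcd 2 (q - 1) * Nat.card (Cfsg.PSp n F) := by
    rw [h3]
    exact h5.mul_left _
  have h7 : 8 ^ 3 ∣ 2 * Nat.card (Cfsg.PSp n F) :=
    h6.trans (Nat.mul_dvd_mul_right (Nat.gcd_dvd_left _ _) _)
  obtain ⟨c, hc⟩ := h7
  exact ⟨16 * c, by omega⟩

theorem not_sixteen (k : ℕ) : ¬ 16 ∣ (3 ^ (2 * k + 1)) ^ 3 * ((3 ^ (2 * k + 1)) ^ 3 + 1) * (3 ^ (2 * k + 1) - 1) := by
  have h1 : ∀ k : ℕ, (3 ^ (2 * k + 1)) % 16 = 3 ∨ (3 ^ (2 * k + 1)) % 16 = 11 := by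
    intro k
    induction k with
    | zero => left; norm_num
    | succ k ih =>
      rw [show 2 * (k + 1) + 1 = (2 * k + 1) + 2 by ring, pow_add, Nat.mul_mod]
      rcases ih with h | h <;> rw [h] <;> norm_num
  have h3 : 1 ≤ 3 ^ (2 * k + 1) := Nat.one_le_pow _ _ (by norm_num)
  intro hd
  obtain ⟨r, hr⟩ : ∃ r, 3 ^ (2 * k + 1) = r + 1 := ⟨3 ^ (2 * k + 1) - 1, by omega⟩
  have h2 := h1 k
  rw [hr] at h2 hd
  rw [Nat.add_sub_cancel] at hd
  have h4 : r % 16 = 2 ∨ r % 16 = 10 := by omega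
  have h5 := Nat.mod_eq_zero_of_dvd hd
  rcases h4 with h4 | h4 <;> simp [Nat.mul_mod, Nat.add_mod, Nat.pow_mod, h4] at h5

theorem isRee_false (hE : EqSt.{u}) {L : Type u} [Group L] [Finite L] {m : ℕ} (hL : Cfsg.IsRee L) (h : EA 3 m L) :
    False := by
  have : Fact (Nat.Prime 3) := ⟨Nat.prime_three⟩
  obtain ⟨hs, k, hk, hcard⟩ := hL
  let K := GaloisField 3 (2 * k + 1)
  have : Fintype K := Fintype.ofFinite K
  have hK : Fintype.card K = 3 ^ (2 * k + 1) := by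
    rw [← Nat.card_eq_fintype_card]
    exact GaloisField.card 3 (2 * k + 1) (by omega)
  have hM : IsSimpleGroup ↥(Cfsg.Lie.twistedG2 K (3 ^ k)) := (S1073.result hk hK).1
  have hM2 := S1069.result hK
  have heq : Nat.card L = Nat.card ↥(Cfsg.Lie.twistedG2 K (3 ^ k)) := by
    rw [hcard, hM2]
    ring
  have h27 : 27 ∣ Nat.card L := by
    rw [hcard]
    refine Dvd.dvd.mul_right (Dvd.dvd.mul_right ?_ _) _
    rw [← pow_mul, show (27 : ℕ) = 3 ^ 3 by norm_num]
    exact pow_dvd_pow 3 (by omega)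
  have h20 : Nat.card L ≠ 20160 := by
    intro h1
    rw [h1] at h27
    norm_num at h27
  have h16 : ¬ 16 ∣ Nat.card L := by
    rw [hcard]
    exact not_sixteen k
  rcases hE heq with ⟨⟨e⟩⟩ | ((⟨-, F, _, _, hF, ⟨e⟩⟩ | ⟨-, F, _, _, hF, ⟨e⟩⟩) | ⟨F, _, _, n, hF, hn, ⟨-, ⟨e⟩⟩ | ⟨-, ⟨e⟩⟩⟩)
  · exact ree_false hk hK (h.congr e)
  · exact h20 (heq.trans (card_psl34 hF e))
  · exact h20 (card_psl34 hF e)
  · apply h16
    rw [heq, Nat.card_congr e.toEquiv]
    exact sixteen_dvd hF hn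
  · apply h16
    rw [Nat.card_congr e.toEquiv]
    exact sixteen_dvd hF hn

/-- the text of S4749 -/
def TISt : Prop :=
  ∀ {G : Type u} [Group G] [Finite G] [IsSimpleGroup G], ¬ IsMulCommutative G → ∀ (p : ℕ) [Fact p.Prime] (P : Sylow p G),
    (∀ g : G, g ∉ Subgroup.normalizer ((P : Subgroup G) : Set G) → (P : Subgroup G) ⊓ (MulAut.conj g • (P : Subgroup G)) = ⊥) →
    ¬ IsCyclic ↥(P : Subgroup G) → (∃ (F : Type) (_ : Field F) (_ : Fintype F) (n : ℕ), 2 ≤ n ∧ Fintype.card F = p ^ n ∧ Nonempty (G ≃* Matrix.ProjectiveSpecialLinearGroup (Fin 2) F)) ∨ (∃ (F : Type) (_ : Field F) (_ : Fintype F) (n : ℕ), 1 ≤ n ∧ Fintype.card F = (p ^ n) ^ 2 ∧ Nonempty (G ≃* Cfsg.PSU 3 F (p ^ n))) ∨ (p = 2 ∧ Cfsg.IsSuzuki G) ∨ (p = 3 ∧ (Cfsg.IsRee G ∨ (∃ (F : Type) (_ : Field F) (_ : Fintype F), Fintype.card F = 4 ∧ Nonempty (G ≃* Matrix.ProjectiveSpecialLinearGroup (Fin 3) F)) ∨ Cfsg.IsM11 G)) ∨ (p = 5 ∧ (Cfsg.IsTits G ∨ Cfsg.IsMcL G)) ∨ (p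 = 11 ∧ Cfsg.IsJ4 G)

/-- **Simple groups with elementary abelian TI Sylow `p`-subgroups of order `p^m`, `m ≥ 2`**, up to exceptions. -/
theorem sim_core (hT : TISt.{u}) (hE : EqSt.{u}) {L : Type u} [Group L] [Finite L] [IsSimpleGroup L]
    (hna : ¬ IsMulCommutative L) {p m : ℕ} [hp : Fact p.Prime] (hm : 2 ≤ m) (h : EA p m L)
    (hx : (p = 3 ∧ (Nat.card L = 20160 ∨ Nat.card L = 7920)) ∨ (p = 5 ∧ (Nat.card L = 17971200 ∨ Cfsg.IsMcL L)) ∨
      (p = 11 ∧ Cfsg.IsJ4 L) → False) :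
    ∃ (F : Type) (_ : Field F) (_ : Fintype F), Fintype.card F = p ^ m ∧
      Nonempty (L ≃* Matrix.ProjectiveSpecialLinearGroup (Fin 2) F) := by
  obtain ⟨P⟩ : Nonempty (Sylow p L) := inferInstance
  have hTI : ∀ g : L, g ∉ Subgroup.normalizer ((P : Subgroup L) : Set L) →
      (P : Subgroup L) ⊓ (MulAut.conj g • (P : Subgroup L)) = ⊥ := by
    intro g hg
    rw [eq_bot_iff]
    rintro x ⟨hx1, hx2⟩
    rw [mem_bot]
    by_contra hne
    apply hg
    refine Sylow.smul_eq_iff_mem_normalizer.1 ?_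
    exact (h.ti.sylow_eq (P := g • P) (Q := P) hx2 hx1 hne)
  rcases hT hna p P hTI (h.not_cyclic hm P) with ⟨F, _, _, n, hn, hF, ⟨e⟩⟩ | ⟨F, _, _, n, hn, hF, ⟨e⟩⟩ | ⟨h2, hL⟩ |
    ⟨h3, hL⟩ | ⟨h5, hL⟩ | ⟨h11, hL⟩
  · -- `n = m`
    refine ⟨F, inferInstance, inferInstance, ?_, ⟨e⟩⟩
    have h1 := ClassicalGeometry.PSL2Basic.card_PSL2_gcd (F := F)
    rw [← Nat.card_congr e.toEquiv, hF] at h1
    have hpn : p ∣ p ^ n := dvd_pow_self p (by omega)
    have hq : 1 < p ^ n := Nat.one_lt_pow (by omega) hp.out.one_lt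
    have hcop : ¬ p ∣ (p ^ n) ^ 2 - 1 := by
      intro h2
      have h3 : p ∣ (p ^ n) ^ 2 := hpn.trans (dvd_pow_self _ two_ne_zero)
      have h4 : 1 ≤ (p ^ n) ^ 2 := Nat.one_le_pow _ _ (by omega)
      have h5 := Nat.dvd_sub h3 h2
      rw [Nat.sub_sub_self h4] at h5
      exact hp.out.one_lt.ne' (Nat.dvd_one.1 h5)
    have hcop2 : ¬ p ∣ Nat.gcd 2 (p ^ n - 1) := by
      intro h2
      have h3 := h2.trans (Nat.gcd_dvd_right _ _)
      have h5 := Nat.dvd_sub hpn h3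
      rw [Nat.sub_sub_self (by omega)] at h5
      exact hp.out.one_lt.ne' (Nat.dvd_one.1 h5)
    have hmn : m = n := by
      apply le_antisymm
      · apply h.ge_of
        intro h2
        have h3 : p ^ n * p ∣ p ^ n * ((p ^ n) ^ 2 - 1) := by
          rw [← h1, ← pow_succ]
          exact h2.mul_right _
        exact hcop ((Nat.mul_dvd_mul_iff_left (by omega)).1 h3)
      · apply h.le_of
        have h3 : p ^ n ∣ Nat.card L * Nat.gcd 2 (p ^ n - 1) := by
          rw [h1]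
          exact dvd_mul_right _ _
        exact Nat.Coprime.dvd_of_dvd_mul_right (Nat.Coprime.pow_left _ ((Nat.Prime.coprime_iff_not_dvd hp.out).2 hcop2)) h3
    rw [hmn]
    exact hF
  · exact (psu_false hF hn (h.congr e)).elim
  · subst h2
    exact (suz_false hL h).elim
  · subst h3
    rcases hL with hL | ⟨F, _, _, hF, ⟨e⟩⟩ | hL
    · exact (isRee_false hE hL h).elim
    · exact (hx (Or.inl ⟨rfl, Or.inl (card_psl34 hF e)⟩)).elim
    · exact (hx (Or.inl ⟨rfl, Or.inr hL.2⟩)).elim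
  · exact (hx (Or.inr (Or.inl ⟨h5, hL.imp (fun h => h.2) id⟩))).elim
  · exact (hx (Or.inr (Or.inr ⟨h11, hL⟩))).elim

/-- **Simple groups with elementary abelian TI Sylow `p`-subgroups of order `p^m`, `m ≥ 2`.** -/
theorem sim (hT : TISt.{u}) (hE : EqSt.{u}) {L : Type u} [Group L] [Finite L] [IsSimpleGroup L]
    (hna : ¬ IsMulCommutative L) {p m : ℕ} [hp : Fact p.Prime] (hm : 2 ≤ m) (h : EA p m L)
    (hd : p ≠ 2 → Nat.card L ∣ Nat.card (GL (Fin (2 * m)) (ZMod p))) :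
    ∃ (F : Type) (_ : Field F) (_ : Fintype F), Fintype.card F = p ^ m ∧
      Nonempty (L ≃* Matrix.ProjectiveSpecialLinearGroup (Fin 2) F) := by
  refine sim_core hT hE hna hm h fun hx => ?_
  refine spor_false h hd ?_
  rcases hx with h3 | ⟨h5, hL⟩ | ⟨h11, hL⟩
  · exact Or.inl h3
  · exact Or.inr (Or.inl ⟨h5, hL.imp id (fun h => h.2)⟩)
  · exact Or.inr (Or.inr ⟨h11, hL.2⟩)

end Cfsg.Agent.H835.P4
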